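import Groth.Agent.Lib.DQC.Tensor
import Groth.Agent.Lib.DPerf.Noeth
import Groth.Agent.Lib.KFlat.LpullPC
import Groth.Agent.Lib.DMod.PCHomology
import Groth.Agent.Lib.ModM1.Fpqc
import Groth.Agent.Lib.ModLimH13.Flat

/-!
# Coherent cohomology of derived tensor products
-/

set_option autoImplicit false
set_option linter.style.haveILetI false
set_option linter.unusedSectionVars false
set_option backward.isDefEq.respectTransparency false
set_option backward.isDefEq.respectTransparency.types false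
set_option maxHeartbeats 800000

universe u

open CategoryTheory CategoryTheory.Limits AlgebraicGeometry

attribute [local instance] HasDerivedCategory.standard
attribute [local instance] Abelian.hasFiniteBiproducts

namespace Groth.Agent.HTorCoh13

open KFlat KFlat.Sch

/-- A bounded above object with coherent cohomology over a Noetherian affine scheme. -/
theorem exists_vb_tilde {R : CommRingCat.{u}} [IsNoetherianRing R] {E : DCoh.D (Spec R)}
    (hE : DCoh.IsCohD E) (b : ℤ) [E.IsLE b] :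
    ∃ P : CochainComplex (Spec R).Modules ℤ, IsKFlat (TX (Spec R)) P ∧ (∀ i, b < i → IsZero (P.X i)) ∧
      (∀ i, FlatMod.IsFinLocFree (P.X i)) ∧ Nonempty (DCoh.toD (Spec R) P ≅ E) := by
  obtain ⟨M, ⟨eM⟩⟩ := DQC.exists_iso_of_isQCohD E fun i => (hE i).1
  let M' : Dual.D (R : Type u) := (shiftFunctor (DerivedCategory (ModuleCat.{u} R)) b).obj M
  let sh : ∀ i : ℤ, (DerivedCategory.homologyFunctor (ModuleCat.{u} R) i).obj M' ≅
      (DerivedCategory.homologyFunctor (ModuleCat.{u} R) (b + i)).obj M := fun i =>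
    ((DerivedCategory.homologyFunctor (ModuleCat.{u} R) 0).shiftIso b i (b + i) rfl).app M
  let t : ∀ i : ℤ, (tilde.functor R).obj ((DerivedCategory.homologyFunctor (ModuleCat.{u} R) i).obj M) ≅
      DCoh.HD E i := fun i =>
    (DPerf.hdTildeIso M i).symm ≪≫ (DerivedCategory.homologyFunctor _ i).mapIso eM
  haveI : M'.IsLE 0 := (DerivedCategory.isLE_iff _ _).2 fun i hi =>
    (DPerf.isZero_of_tilde ((DerivedCategory.isZero_of_isLE E b (b + i) (by omega)).of_iso (t _))).of_iso (sh i)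
  have hfin : ∀ i, Module.Finite R (Dual.HD R M' i) := fun i => by
    have h1 : CohB1.IsFT (tilde ((DerivedCategory.homologyFunctor (ModuleCat.{u} R) (b + i)).obj M)) :=
      M1.isFT_of_isIso (t (b + i)).symm (hE (b + i)).2
    have := M1.finite_of_isFT_tilde _ h1
    exact Module.Finite.equiv (sh i).toLinearEquiv.symm
  obtain ⟨E₀, hE₀, hF₀, ⟨e₀⟩⟩ := DMod.exists_finite_free_resolution (A := R) (K := M') hfin
  let E₁ : CochainComplex (ModuleCat.{u} R) ℤ := E₀⟦-b⟧
  let e₁ : DerivedCategory.Q.obj E₁ ≅ M :=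
    ((DerivedCategory.Q (C := ModuleCat.{u} R)).commShiftIso (-b)).app E₀ ≪≫
      (shiftFunctor _ (-b)).mapIso e₀ ≪≫ (shiftFunctorCompIsoId _ b (-b) (add_neg_cancel b)).app M
  have hz : ∀ i, b < i → IsZero (E₁.X i) := fun i hi => (hE₀ (i + -b) (by omega) :)
  haveI : E₁.IsStrictlyLE b := (CochainComplex.isStrictlyLE_iff _ _).2 hz
  have hfree : ∀ i, Module.Finite R (E₁.X i) ∧ Module.Free R (E₁.X i) := fun i => (hF₀ (i + -b) :)
  refine ⟨(DPerf.tildeX R).obj E₁, isKFlat_tilde R ?_, fun i hi => (tilde.functor R).map_isZero (hz i hi),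
    fun i => ?_, ⟨((tilde.functor R).mapDerivedCategoryFactors.app E₁).symm ≪≫
      (DPerf.tildeDD R).mapIso e₁ ≪≫ eM⟩⟩
  · exact KFlat.isKFlat_of_boundedAbove_flat E₁ b fun i => (Module.isFlat_iff _).2 (by
      have := (hfree i).2
      exact inferInstanceAs (_root_.Module.Flat R (E₁.X i)))
  · have := (hfree i).1
    have := (hfree i).2
    exact DPerf.isFinLocFree_tilde (M := E₁.X i)

/-- Total tensor products of bounded above complexes of vector bundles consist of vector bundles. -/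
theorem isFinLocFree_tcx_X {X : Scheme.{u}} {P Q : CochainComplex X.Modules ℤ} (b d : ℤ)
    (hP : ∀ i, b < i → IsZero (P.X i)) (hQ : ∀ i, d < i → IsZero (Q.X i))
    (hPf : ∀ i, FlatMod.IsFinLocFree (P.X i)) (hQf : ∀ i, FlatMod.IsFinLocFree (Q.X i)) (n : ℤ) :
    FlatMod.IsFinLocFree ((((tcx (TX X)).obj P).obj Q).X n) := by
  classical
  obtain ⟨a, ha⟩ : ∃ a : ℤ, a = n - d := ⟨_, rfl⟩
  let A : Fin ((b - a).toNat + 1) → X.Modules := fun j => ((TX X).obj (P.X (a + j))).obj (Q.X (n - (a + j)))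
  let i : (((tcx (TX X)).obj P).obj Q).X n ⟶ ⨁ A :=
    HomologicalComplex.mapBifunctorDesc fun p q h =>
      if hp : a ≤ p ∧ p ≤ b then
        eqToHom (by
          have h' : p + q = n := h
          have hq : q = n - p := by omega
          have e : (a + ((⟨(p - a).toNat, by omega⟩ : Fin ((b - a).toNat + 1)) : ℕ) : ℤ) = p := by
            simp; omega
          simp only [A, e, hq]) ≫ biproduct.ι A ⟨(p - a).toNat, by omega⟩
      else 0
  refine isFinLocFree_of_finite_sum A (fun j => M2.isFinLocFree_tensor (hPf _) (hQf _)) i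
    (biproduct.desc fun j => ιt (TX X) P Q (a + j) (n - (a + j)) n (by omega)) ?_
  refine tcx_hom_ext (TX X) fun p q h => ?_
  refine (ι_desc_assoc (TX X) P Q _ p q h _).trans ?_
  refine Eq.trans ?_ (Category.comp_id _).symm
  have h' : p + q = n := h
  split_ifs with hp
  · rw [Category.assoc, biproduct.ι_desc]
    exact eqToHom_ιt P Q n (by simp; omega) (by simp; omega) _ _ _
  · rw [zero_comp]
    refine IsZero.eq_of_src ?_ _ _
    by_cases hp' : b < p
    · exact ((TX X).map_isZero (hP p hp')).obj _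
    · exact ((TX X).obj _).map_isZero (hQ q (by omega))

theorem isCohD_of_iso {X : Scheme.{u}} {A B : DCoh.D X} (e : A ≅ B) (h : DCoh.IsCohD A) : DCoh.IsCohD B :=
  fun i => ⟨M1.isQCoh_of_isIso ((DerivedCategory.homologyFunctor _ i).mapIso e) (h i).1,
    M1.isFT_of_isIso ((DerivedCategory.homologyFunctor _ i).mapIso e) (h i).2⟩

theorem isLE_toD {X : Scheme.{u}} {K : CochainComplex X.Modules ℤ} {b : ℤ} (h : ∀ i, b < i → IsZero (K.X i)) :
    (DCoh.toD X K).IsLE b :=
  (DerivedCategory.isLE_iff _ _).2 fun i hi => (isZero_HD_toD_iff K i).2 (by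
    rw [HomologicalComplex.exactAt_iff]
    exact ShortComplex.exact_of_isZero_X₂ _ (h i hi))

/-- Tensor products with coherent cohomology over a Noetherian affine scheme. -/
theorem isCohD_tcx_affine {R : CommRingCat.{u}} [IsNoetherianRing R]
    {A B : CochainComplex (Spec R).Modules ℤ} (hA : IsKFlat (TX (Spec R)) A) (hB : IsKFlat (TX (Spec R)) B)
    (hA' : DCoh.IsCohD (DCoh.toD _ A)) (hB' : DCoh.IsCohD (DCoh.toD _ B)) (a b : ℤ)
    [(DCoh.toD (Spec R) A).IsLE a] [(DCoh.toD (Spec R) B).IsLE b] :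
    DCoh.IsCohD (DCoh.toD _ (((tcx (TX (Spec R))).obj A).obj B)) := by
  obtain ⟨P, hP, hPz, hPf, ⟨eP⟩⟩ := exists_vb_tilde hA' a
  obtain ⟨Q, hQ, hQz, hQf, ⟨eQ⟩⟩ := exists_vb_tilde hB' b
  obtain ⟨c⟩ := nonempty_toD_tcx_congr hP hA hQ hB eP eQ
  refine isCohD_of_iso c fun n => ?_
  have h := DPerf.isCoh_homology (fun k => (M1.isCoh_iff_isFP _).2
    (M1.isFP_of_isFinLocFree (isFinLocFree_tcx_X a b hPz hQz hPf hQf k))) n
  let e := (DerivedCategory.homologyFunctorFactors (Spec R).Modules n).app (((tcx (TX (Spec R))).obj P).obj Q)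
  exact ⟨M1.isQCoh_of_isIso e.symm h.1, M1.isFT_of_isIso e.symm h.2⟩

theorem isCohD_resD {X Z : Scheme.{u}} (j : Z ⟶ X) [IsOpenImmersion j] {K : DCoh.D X} (h : DCoh.IsCohD K) :
    DCoh.IsCohD ((DPerf.resD j).obj K) := fun i =>
  ⟨DQC.isQCohD_resD j (fun k => (h k).1) i,
    M1.isFT_of_isIso (DPerf.hdResIso j K i).symm (M1.isFT_restrict (h i).2 j)⟩

theorem isCohD_of_cover {X : Scheme.{u}} {K : DCoh.D X}
    (h : ∀ x : X, ∃ (Z : Scheme.{u}) (j : Z ⟶ X) (_ : IsOpenImmersion j),
      x ∈ Set.range j ∧ DCoh.IsCohD ((DPerf.resD j).obj K)) : DCoh.IsCohD K := fun i => by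
  choose Z j hj hx hK using h
  exact ⟨DQC.isQCohD_of_cover (fun x => ⟨Z x, j x, hj x, hx x, fun k => (hK x k).1⟩) i,
    M1.isFT_of_openImmersion_cover j (fun x => ⟨x, hx x⟩) fun x =>
      M1.isFT_of_isIso (DPerf.hdResIso (j x) K i) (hK x i).2⟩

/-- Derived tensor products of bounded above objects with coherent cohomology. -/
theorem isCohD_lTensorCx {X : Scheme.{u}} [IsLocallyNoetherian X] (F : CochainComplex X.Modules ℤ)
    (hF : DCoh.IsCohD (DCoh.toD X F)) (b : ℤ) [(DCoh.toD X F).IsLE b] [DCoh.HasLTensorCx F]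
    {E : DCoh.D X} (hE : DCoh.IsCohD E) (a : ℤ) [E.IsLE a] :
    DCoh.IsCohD ((DCoh.LTensorCx F).obj E) := by
  obtain ⟨A, ⟨hA, -⟩, ⟨eA⟩⟩ := exists_adapted_rep E
  obtain ⟨v⟩ := nonempty_lTensorCxObjIso F A hA
  haveI : QuasiIso (resπ (cover X) F) := quasiIso_resπ (cover X) F
  haveI : QuasiIso (((tcx (TX X)).obj A).map (resπ (cover X) F)) :=
    ((isKFlat_flip_iff' A).2 hA).quasiIso_map₂ _
  refine isCohD_of_iso (asIso (DerivedCategory.Q.map (((tcx (TX X)).obj A).map
    (resπ (cover X) F))) ≪≫ v.symm ≪≫ (DCoh.LTensorCx F).mapIso eA) ?_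
  let eF : DCoh.toD X (resObj (cover X) F) ≅ DCoh.toD X F :=
    asIso (DerivedCategory.Q.map (resπ (cover X) F))
  refine isCohD_of_cover fun x => ?_
  obtain ⟨U, hU, hxU, -⟩ := exists_isAffineOpen_mem_and_subset (x := x) (U := (⊤ : X.Opens)) trivial
  haveI : IsNoetherianRing Γ(X, U) := IsLocallyNoetherian.component_noetherian ⟨U, hU⟩
  refine ⟨_, hU.fromSpec, inferInstance, by rw [hU.range_fromSpec]; exact hxU, ?_⟩
  let i := hU.fromSpec
  have hle := fun (K : DCoh.D X) (c : ℤ) (_ : K.IsLE c) =>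
    ((DerivedCategory.isLE_iff ((DPerf.resD i).obj K) c).2 fun n hn =>
      ((Scheme.Modules.restrictFunctor i).map_isZero (DerivedCategory.isZero_of_isLE K c n hn)).of_iso
        (DPerf.hdResIso i K n))
  let FA := DQC.resPullIso i A
  let FB := DQC.resPullIso i (resObj (cover X) F)
  haveI := @Triangulated.TStructure.isLE_of_iso _ _ _ _ _ _ _ _ _ _
    ((DPerf.resD i).mapIso eA.symm ≪≫ FA) a (hle E a inferInstance)
  haveI := @Triangulated.TStructure.isLE_of_iso _ _ _ _ _ _ _ _ _ _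
    ((DPerf.resD i).mapIso eF.symm ≪≫ FB) b (hle (DCoh.toD X F) b inferInstance)
  exact isCohD_of_iso (DerivedCategory.Q.mapIso (pullTensorCxIso i A _).symm ≪≫ (DQC.resPullIso i _).symm)
    (isCohD_tcx_affine (isKFlat_pullback i hA) (isKFlat_pullback i (isAdapted_resObj F).1)
      (isCohD_of_iso ((DPerf.resD i).mapIso eA.symm ≪≫ FA) (isCohD_resD i hE))
      (isCohD_of_iso ((DPerf.resD i).mapIso eF.symm ≪≫ FB) (isCohD_resD i hF)) a b)

/-- The derived pullback of a bounded above object with coherent cohomology. -/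
theorem isCohD_lpull {X Y : Scheme.{u}} [IsLocallyNoetherian X] [IsLocallyNoetherian Y] (f : Y ⟶ X)
    [DCoh.HasLpull f] {E : DCoh.D X} (hE : DCoh.IsCohD E) (b : ℤ) [E.IsLE b] :
    DCoh.IsCohD ((DCoh.Lpull f).obj E) := fun i =>
  DPerf.isCoh_HD_of_pseudoCoherent
    (isPseudoCoherent_lpull f (DPerf.isPseudoCoherentD_of_coherent (m := i) (fun k _ => hE k) b))
    (DQC.isQCohD_lpull f (fun k => (hE k).1) i) le_rfl

theorem isLE_lpull {X Y : Scheme.{u}} (f : Y ⟶ X) [DCoh.HasLpull f] {E : DCoh.D X} (b : ℤ) [E.IsLE b] :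
    ((DCoh.Lpull f).obj E).IsLE b :=
  (DerivedCategory.isLE_iff _ _).2 fun i hi =>
    isZero_HD_lpull f E b (fun j hj => DerivedCategory.isZero_of_isLE E b j hj) i hi

/-- Flat pullback of a complex with coherent cohomology. -/
theorem isCohD_pullCx_of_flat {X Y : Scheme.{u}} (f : Y ⟶ X) [Flat f] (K : CochainComplex X.Modules ℤ)
    (hK : DCoh.IsCohD (DCoh.toD X K)) :
    DCoh.IsCohD (DCoh.toD Y (((Scheme.Modules.pullback f).mapHomologicalComplex (ComplexShape.up ℤ)).obj K)) := by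
  intro n
  haveI := ModLimH13.preservesFiniteLimits_pullback_of_flat f
  have h : Coh.IsCoh ((Scheme.Modules.pullback f).obj (K.homology n)) := M1.isCoh_pullback f
    ⟨M1.isQCoh_of_isIso ((DerivedCategory.homologyFunctorFactors _ n).app K) (hK n).1,
      M1.isFT_of_isIso ((DerivedCategory.homologyFunctorFactors _ n).app K) (hK n).2⟩
  let e := ((DerivedCategory.homologyFunctorFactors Y.Modules n).app
    (((Scheme.Modules.pullback f).mapHomologicalComplex (ComplexShape.up ℤ)).obj K) ≪≫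
    (K.sc n).mapHomologyIso (Scheme.Modules.pullback f)).symm
  exact ⟨M1.isQCoh_of_isIso e h.1, M1.isFT_of_isIso e h.2⟩

theorem isCohD_toD_single {X : Scheme.{u}} (F : X.Modules) (hF : Coh.IsCoh F) :
    DCoh.IsCohD (DCoh.toD X ((HomologicalComplex.single X.Modules (ComplexShape.up ℤ) 0).obj F)) := by
  intro n
  let e := (DerivedCategory.homologyFunctorFactors X.Modules n).app
    ((HomologicalComplex.single X.Modules (ComplexShape.up ℤ) 0).obj F)
  rcases eq_or_ne n 0 with rfl | hn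
  · let e' := e ≪≫ HomologicalComplex.singleObjHomologySelfIso (ComplexShape.up ℤ) 0 F
    exact ⟨M1.isQCoh_of_isIso e'.symm hF.1, M1.isFT_of_isIso e'.symm hF.2⟩
  · exact DPerf.isCoh_of_isZero ((HomologicalComplex.ExactAt.isZero_homology
      (HomologicalComplex.exactAt_single_obj (ComplexShape.up ℤ) 0 F n hn)).of_iso e)

end Groth.Agent.HTorCoh13
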